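import Mathlib.RingTheory.MvPolynomial.WeightedHomogeneous
import Mathlib.Algebra.Polynomial.Derivative
import Mathlib.Algebra.Polynomial.AlgebraMap
import Mathlib.LinearAlgebra.LinearIndependent.Basic
import Mathlib.Tactic

/-!
# Bicubic forms through a doubled tritangent scheme of the diagonal
-/

universe u

open MvPolynomial

namespace GrothLib.SpinCubic27

variable {k : Type u} [Field k]

/-- The exponent of `x0^a x1^(3-a) y0^b y1^(3-b)`. -/
noncomputable def e4 (a b : Fin 4) : Fin 4 →₀ ℕ :=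
  Finsupp.equivFunOnFinite.symm ![(a : ℕ), 3 - (a : ℕ), (b : ℕ), 3 - (b : ℕ)]

/-- The bicubic form with given coefficients. -/
noncomputable def Φ (c : Fin 4 → Fin 4 → k) : MvPolynomial (Fin 4) k :=
  ∑ a : Fin 4, ∑ b : Fin 4, C (c a b) * (X 0 ^ (a : ℕ) * X 1 ^ (3 - (a : ℕ)) * (X 2 ^ (b : ℕ) * X 3 ^ (3 - (b : ℕ))))

theorem Φ_eq (c : Fin 4 → Fin 4 → k) : Φ c = ∑ a : Fin 4, ∑ b : Fin 4, monomial (e4 a b) (c a b) := by
  refine Finset.sum_congr rfl fun a _ => Finset.sum_congr rfl fun b _ => ?_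
  rw [monomial_eq, Finsupp.prod_fintype _ _ (fun _ => pow_zero _), Fin.prod_univ_four]
  simp [e4, mul_assoc]

theorem e4_injective {a b a' b' : Fin 4} (h : e4 a b = e4 a' b') : a = a' ∧ b = b' := by
  have h0 := DFunLike.congr_fun h 0
  have h2 := DFunLike.congr_fun h 2
  simp [e4] at h0 h2
  exact ⟨by omega, by omega⟩

theorem coeff_Φ (c : Fin 4 → Fin 4 → k) (a b : Fin 4) : coeff (e4 a b) (Φ c) = c a b := by
  classical
  rw [Φ_eq, coeff_sum, Finset.sum_eq_single a, coeff_sum, Finset.sum_eq_single b]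
  · rw [coeff_monomial, if_pos rfl]
  · intro b' _ hb
    rw [coeff_monomial, if_neg]
    exact fun h => hb (e4_injective h).2
  · simp
  · intro a' _ ha
    rw [coeff_sum]
    exact Finset.sum_eq_zero fun b' _ => by
      rw [coeff_monomial, if_neg]; exact fun h => ha (e4_injective h).1
  · simp

theorem isWeightedHomogeneous_Φ (c : Fin 4 → Fin 4 → k) :
    (Φ c).IsWeightedHomogeneous (![1, 1, 0, 0] : Fin 4 → ℕ) 3 ∧
      (Φ c).IsWeightedHomogeneous (![0, 0, 1, 1] : Fin 4 → ℕ) 3 := by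
  rw [Φ_eq]
  constructor <;>
    refine IsWeightedHomogeneous.sum _ _ _ fun a _ => IsWeightedHomogeneous.sum _ _ _ fun b _ =>
      isWeightedHomogeneous_monomial _ _ _ ?_ <;>
    rw [Finsupp.weight_apply, Finsupp.sum_fintype _ _ (fun _ => by simp), Fin.sum_univ_four] <;>
    simp [e4] <;> omega

theorem exists_eq_Φ {f : MvPolynomial (Fin 4) k} (h1 : f.IsWeightedHomogeneous (![1, 1, 0, 0] : Fin 4 → ℕ) 3)
    (h2 : f.IsWeightedHomogeneous (![0, 0, 1, 1] : Fin 4 → ℕ) 3) :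
    f = Φ fun a b => coeff (e4 a b) f := by
  classical
  ext n
  by_cases hn : ∃ a b, e4 a b = n
  · obtain ⟨a, b, rfl⟩ := hn
    rw [coeff_Φ]
  · rw [Φ_eq, coeff_sum, Finset.sum_eq_zero fun a _ => ?_]
    · by_contra hne
      have e1 := h1 hne
      have e2 := h2 hne
      rw [Finsupp.weight_apply, Finsupp.sum_fintype _ _ (fun _ => by simp), Fin.sum_univ_four] at e1 e2
      simp at e1 e2
      exact hn ⟨⟨n 0, by omega⟩, ⟨n 2, by omega⟩, Finsupp.ext fun i => by fin_cases i <;> simp [e4] <;> omega⟩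
    · rw [coeff_sum]
      exact Finset.sum_eq_zero fun b _ => by
        rw [coeff_monomial, if_neg]; exact fun h => hn ⟨a, b, h⟩

theorem rename_Φ (c : Fin 4 → Fin 4 → k) :
    rename (![2, 3, 0, 1] : Fin 4 → Fin 4) (Φ c) = Φ fun a b => c b a := by
  simp only [Φ, map_sum, map_mul, map_pow, rename_C, rename_X]
  rw [Finset.sum_comm]
  refine Finset.sum_congr rfl fun a _ => Finset.sum_congr rfl fun b _ => ?_
  simp only [Matrix.cons_val, Matrix.cons_val_zero, Matrix.cons_val_one]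
  ring

theorem Φ_neg (c : Fin 4 → Fin 4 → k) : -Φ c = Φ fun a b => -c a b := by
  simp [Φ, neg_mul]

theorem Φ_injective : Function.Injective (Φ (k := k)) := fun c c' h =>
  funext fun a => funext fun b => by rw [← coeff_Φ c a b, h, coeff_Φ]

/-- The conditions on the coefficients cut out by the divisibility. -/
theorem diag_conditions (c : Fin 4 → Fin 4 → k)
    (h : (X 0 * X 1 * (X 0 - X 1) : MvPolynomial (Fin 2) k) ^ 2 ∣ rename (![0, 1, 0, 1] : Fin 4 → Fin 2) (Φ c)) :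
    c 0 0 = 0 ∧ c 0 1 + c 1 0 = 0 ∧ c 3 3 = 0 ∧ c 2 3 + c 3 2 = 0 ∧
      (c 0 2 + c 2 0 + c 1 1) + (c 0 3 + c 3 0 + c 1 2 + c 2 1) + (c 1 3 + c 3 1 + c 2 2) = 0 ∧
      2 * (c 0 2 + c 2 0 + c 1 1) + 3 * (c 0 3 + c 3 0 + c 1 2 + c 2 1) + 4 * (c 1 3 + c 3 1 + c 2 2) = 0 := by
  obtain ⟨q, hq⟩ := h
  have key : ∀ (u v : Polynomial k), aeval ![u, v] (rename (![0, 1, 0, 1] : Fin 4 → Fin 2) (Φ c)) =
      (u * v * (u - v)) ^ 2 * aeval ![u, v] q := fun u v => by
    rw [hq]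
    simp
  have hΦ : ∀ (u v : Polynomial k), aeval ![u, v] (rename (![0, 1, 0, 1] : Fin 4 → Fin 2) (Φ c)) =
      ∑ a : Fin 4, ∑ b : Fin 4, Polynomial.C (c a b) * (u ^ (a : ℕ) * v ^ (3 - (a : ℕ)) * (u ^ (b : ℕ) * v ^ (3 - (b : ℕ)))) := by
    intro u v
    simp [Φ, Polynomial.algebraMap_eq]
  have k1 := key Polynomial.X 1
  rw [hΦ] at k1
  have k2 := key 1 Polynomial.X
  rw [hΦ] at k2
  have g0 := congrArg (Polynomial.eval 0) k1
  have g1 := congrArg (fun p => Polynomial.eval 0 (Polynomial.derivative p)) k1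
  have h0 := congrArg (Polynomial.eval 0) k2
  have h1 := congrArg (fun p => Polynomial.eval 0 (Polynomial.derivative p)) k2
  have v0 := congrArg (Polynomial.eval 1) k1
  have v1 := congrArg (fun p => Polynomial.eval 1 (Polynomial.derivative p)) k1
  simp [Fin.sum_univ_four, Polynomial.derivative_pow, Polynomial.derivative_mul] at g0 g1 h0 h1 v0 v1
  refine ⟨g0, ?_, h0, ?_, ?_, ?_⟩
  · linear_combination g1
  · linear_combination h1
  · linear_combination v0 - g0 - g1 - h0 - h1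
  · linear_combination v1 - g1 - 5 * h1 - 6 * h0

variable (k) in
/-- The ten forms. -/
noncomputable def forms (l h h13 h23 c : MvPolynomial (Fin 4) k) : Fin 10 → MvPolynomial (Fin 4) k :=
  ![c, l ^ 2 * h, l ^ 2 * h13, l ^ 2 * h23, l * h ^ 2, l * h * h13, l * h * h23, l * h13 ^ 2, l * h23 ^ 2,
    l * h13 * h23]

/-- The coefficient table of a combination of the ten forms. -/
def table (w : Fin 10 → k) : Fin 4 → Fin 4 → k :=
  ![![0, -4 * w 4 - 4 * w 6 - 4 * w 8,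
      -2 * w 1 - 2 * w 3 + 12 * w 4 + 6 * w 6, 3 * w 1 - 9 * w 4],
    ![4 * w 4 + 4 * w 8 + 4 * w 6, w 0 + 4 * w 1 + 4 * w 3,
      -w 0 - 3 * w 1 - 17 * w 4 - 4 * w 5 - 4 * w 6 - 4 * w 9, -2 * w 1 - 2 * w 2 + 12 * w 4 + 6 * w 5],
    ![-2 * w 1 - 2 * w 3 - 12 * w 4 - 6 * w 6, -w 0 - 3 * w 1 + 17 * w 4 + 4 * w 5 + 4 * w 6 + 4 * w 9,
      w 0 + 4 * w 1 + 4 * w 2, -4 * w 4 - 4 * w 5 - 4 * w 7],
    ![3 * w 1 + 9 * w 4, -2 * w 1 - 2 * w 2 - 12 * w 4 - 6 * w 5, 4 * w 4 + 4 * w 5 + 4 * w 7, 0]]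

variable [CharZero k]

theorem main
    (l h1 h2 h3 h h13 h23 c : MvPolynomial (Fin 4) k)
    (hl : l = X 0 * X 3 - X 1 * X 2)
    (hh1 : h1 = X 0 * (X 3 - X 2) + X 2 * (X 1 - X 0))
    (hh2 : h2 = X 1 * (X 2 - X 3) + X 3 * (X 0 - X 1))
    (hh3 : h3 = X 0 * X 3 + X 1 * X 2)
    (hh : h = h1 + h2 + h3) (hh13 : h13 = h1 - h3) (hh23 : h23 = h2 - h3)
    (hc : c = X 0 * X 1 * (X 0 - X 1) * (X 2 * X 3 * (X 2 - X 3))) :
    (∀ f : MvPolynomial (Fin 4) k,
      ((f.IsWeightedHomogeneous (![1, 1, 0, 0] : Fin 4 → ℕ) 3 ∧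
        f.IsWeightedHomogeneous (![0, 0, 1, 1] : Fin 4 → ℕ) 3 ∧
        (X 0 * X 1 * (X 0 - X 1)) ^ 2 ∣ rename (![0, 1, 0, 1] : Fin 4 → Fin 2) f) ∧
        rename (![2, 3, 0, 1] : Fin 4 → Fin 4) f = f) ↔
        f ∈ Submodule.span k ({c, l ^ 2 * h, l ^ 2 * h13, l ^ 2 * h23} : Set (MvPolynomial (Fin 4) k))) ∧
    (∀ f : MvPolynomial (Fin 4) k,
      ((f.IsWeightedHomogeneous (![1, 1, 0, 0] : Fin 4 → ℕ) 3 ∧
        f.IsWeightedHomogeneous (![0, 0, 1, 1] : Fin 4 → ℕ) 3 ∧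
        (X 0 * X 1 * (X 0 - X 1)) ^ 2 ∣ rename (![0, 1, 0, 1] : Fin 4 → Fin 2) f) ∧
        rename (![2, 3, 0, 1] : Fin 4 → Fin 4) f = -f) ↔
        f ∈ Submodule.span k ({l * h ^ 2, l * h * h13, l * h * h23, l * h13 ^ 2, l * h23 ^ 2, l * h13 * h23} :
          Set (MvPolynomial (Fin 4) k))) ∧
    LinearIndependent k (forms k l h h13 h23 c) := by
  have hcomb : ∀ w : Fin 10 → k, ∑ i, C (w i) * forms k l h h13 h23 c i = Φ (table w) := by
    intro w
    subst hh hh13 hh23 hh1 hh2 hh3 hl hc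
    simp only [Fin.sum_univ_succ, Fin.sum_univ_zero, forms, Φ, table]
    simp [map_ofNat]
    ring
  have hl0 : rename (![0, 1, 0, 1] : Fin 4 → Fin 2) l = 0 := by
    simp [hl]
    ring
  refine ⟨fun f => ⟨?_, fun hf => ?_⟩, fun f => ⟨?_, fun hf => ?_⟩, ?_⟩
  · rintro ⟨⟨w1, w2, hd⟩, hiota⟩
    rw [exists_eq_Φ w1 w2] at hd hiota ⊢
    generalize (fun a b => coeff (e4 a b) f) = t at hd hiota ⊢
    rw [rename_Φ] at hiota
    have hs : ∀ a b, t b a = t a b := fun a b => congrFun (congrFun (Φ_injective hiota) a) b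
    obtain ⟨d1, d2, d3, d4, d5, d6⟩ := diag_conditions t hd
    let w : Fin 10 → k :=
      ![2 * t 0 2 + t 1 1, t 0 3 / 3, -(t 0 3 / 3) - t 1 3 / 2, -(t 0 2 / 2) - t 0 3 / 3, 0, 0, 0, 0, 0, 0]
    have hw : table w = t := by
      funext a b
      have := hs 0 1; have := hs 0 2; have := hs 0 3; have := hs 1 2; have := hs 1 3; have := hs 2 3
      fin_cases a <;> fin_cases b <;> simp [table, w] <;> grobner
    rw [← hw, ← hcomb]
    refine Submodule.sum_mem _ fun i _ => ?_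
    rw [← smul_eq_C_mul]
    fin_cases i <;> simp [w, forms] <;> exact Submodule.smul_mem _ _ (Submodule.subset_span (by simp))
  · induction hf using Submodule.span_induction with
    | mem x hx =>
      simp only [Set.mem_insert_iff, Set.mem_singleton_iff] at hx
      have key : ∀ i : Fin 10, x = forms k l h h13 h23 c i → (x.IsWeightedHomogeneous (![1, 1, 0, 0] : Fin 4 → ℕ) 3 ∧
          x.IsWeightedHomogeneous (![0, 0, 1, 1] : Fin 4 → ℕ) 3) := fun i hi => by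
        have := hcomb (Pi.single i 1)
        rw [Finset.sum_eq_single i (fun j _ hj => by simp [Pi.single_eq_of_ne hj]) (by simp)] at this
        rw [Pi.single_eq_same, C_1, one_mul, ← hi] at this
        rw [this]
        exact isWeightedHomogeneous_Φ _
      rcases hx with hx | hx | hx | hx
      · refine ⟨⟨(key 0 hx).1, (key 0 hx).2, dvd_of_eq ?_⟩, ?_⟩ <;> subst hx <;> simp [hl, hh, hh13, hh23, hh1, hh2, hh3, hc] <;> ring
      · refine ⟨⟨(key 1 hx).1, (key 1 hx).2, ⟨0, by simp [hx, hl0]⟩⟩, ?_⟩ <;> subst hx <;> simp [hl, hh, hh13, hh23, hh1, hh2, hh3] <;> first | (left; ring) | ring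
      · refine ⟨⟨(key 2 hx).1, (key 2 hx).2, ⟨0, by simp [hx, hl0]⟩⟩, ?_⟩ <;> subst hx <;> simp [hl, hh, hh13, hh23, hh1, hh2, hh3] <;> first | (left; ring) | ring
      · refine ⟨⟨(key 3 hx).1, (key 3 hx).2, ⟨0, by simp [hx, hl0]⟩⟩, ?_⟩ <;> subst hx <;> simp [hl, hh, hh13, hh23, hh1, hh2, hh3] <;> first | (left; ring) | ring
    | zero => exact ⟨⟨isWeightedHomogeneous_zero _ _ _, isWeightedHomogeneous_zero _ _ _, by simp⟩, map_zero _⟩
    | add x y _ _ ihx ihy =>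
      exact ⟨⟨ihx.1.1.add ihy.1.1, ihx.1.2.1.add ihy.1.2.1, by rw [map_add]; exact dvd_add ihx.1.2.2 ihy.1.2.2⟩,
        by rw [map_add, ihx.2, ihy.2]⟩
    | smul r x _ ih =>
      refine ⟨⟨(weightedHomogeneousSubmodule k _ _).smul_mem r ih.1.1,
        (weightedHomogeneousSubmodule k _ _).smul_mem r ih.1.2.1, ?_⟩, by rw [map_smul, ih.2]⟩
      rw [map_smul, smul_eq_C_mul]
      exact dvd_mul_of_dvd_right ih.1.2.2 _
  · rintro ⟨⟨w1, w2, hd⟩, hiota⟩
    rw [exists_eq_Φ w1 w2] at hd hiota ⊢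
    generalize (fun a b => coeff (e4 a b) f) = t at hd hiota ⊢
    rw [rename_Φ, Φ_neg] at hiota
    have hs : ∀ a b, t b a = -t a b := fun a b => congrFun (congrFun (Φ_injective hiota) a) b
    let w : Fin 10 → k :=
      ![0, 0, 0, 0, -(t 0 3 / 9), 2 * t 0 3 / 9 + t 1 3 / 6, t 0 2 / 6 + 2 * t 0 3 / 9,
        -(t 0 3 / 9) - t 1 3 / 6 - t 2 3 / 4, -(t 0 1 / 4) - t 0 2 / 6 - t 0 3 / 9,
        -(t 0 2 / 6) + t 0 3 / 36 - t 1 2 / 4 - t 1 3 / 6]
    have hw : table w = t := by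
      funext a b
      have := hs 0 0; have := hs 1 1; have := hs 2 2; have := hs 3 3
      have := hs 0 1; have := hs 0 2; have := hs 0 3; have := hs 1 2; have := hs 1 3; have := hs 2 3
      fin_cases a <;> fin_cases b <;> simp [table, w] <;> grobner
    rw [← hw, ← hcomb]
    refine Submodule.sum_mem _ fun i _ => ?_
    rw [← smul_eq_C_mul]
    fin_cases i <;> simp [w, forms] <;> exact Submodule.smul_mem _ _ (Submodule.subset_span (by simp))
  · induction hf using Submodule.span_induction with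
    | mem x hx =>
      simp only [Set.mem_insert_iff, Set.mem_singleton_iff] at hx
      have key : ∀ i : Fin 10, x = forms k l h h13 h23 c i → (x.IsWeightedHomogeneous (![1, 1, 0, 0] : Fin 4 → ℕ) 3 ∧
          x.IsWeightedHomogeneous (![0, 0, 1, 1] : Fin 4 → ℕ) 3) := fun i hi => by
        have := hcomb (Pi.single i 1)
        rw [Finset.sum_eq_single i (fun j _ hj => by simp [Pi.single_eq_of_ne hj]) (by simp)] at this
        rw [Pi.single_eq_same, C_1, one_mul, ← hi] at this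
        rw [this]
        exact isWeightedHomogeneous_Φ _
      rcases hx with hx | hx | hx | hx | hx | hx
      · refine ⟨⟨(key 4 hx).1, (key 4 hx).2, ⟨0, by simp [hx, hl0]⟩⟩, ?_⟩ <;> subst hx <;> simp [hl, hh, hh13, hh23, hh1, hh2, hh3] <;> first | (left; ring) | ring
      · refine ⟨⟨(key 5 hx).1, (key 5 hx).2, ⟨0, by simp [hx, hl0]⟩⟩, ?_⟩ <;> subst hx <;> simp [hl, hh, hh13, hh23, hh1, hh2, hh3] <;> first | (left; ring) | ring
      · refine ⟨⟨(key 6 hx).1, (key 6 hx).2, ⟨0, by simp [hx, hl0]⟩⟩, ?_⟩ <;> subst hx <;> simp [hl, hh, hh13, hh23, hh1, hh2, hh3] <;> first | (left; ring) | ring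
      · refine ⟨⟨(key 7 hx).1, (key 7 hx).2, ⟨0, by simp [hx, hl0]⟩⟩, ?_⟩ <;> subst hx <;> simp [hl, hh, hh13, hh23, hh1, hh2, hh3] <;> first | (left; ring) | ring
      · refine ⟨⟨(key 8 hx).1, (key 8 hx).2, ⟨0, by simp [hx, hl0]⟩⟩, ?_⟩ <;> subst hx <;> simp [hl, hh, hh13, hh23, hh1, hh2, hh3] <;> first | (left; ring) | ring
      · refine ⟨⟨(key 9 hx).1, (key 9 hx).2, ⟨0, by simp [hx, hl0]⟩⟩, ?_⟩ <;> subst hx <;> simp [hl, hh, hh13, hh23, hh1, hh2, hh3] <;> first | (left; ring) | ring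
    | zero => exact ⟨⟨isWeightedHomogeneous_zero _ _ _, isWeightedHomogeneous_zero _ _ _, by simp⟩, by simp⟩
    | add x y _ _ ihx ihy =>
      exact ⟨⟨ihx.1.1.add ihy.1.1, ihx.1.2.1.add ihy.1.2.1, by rw [map_add]; exact dvd_add ihx.1.2.2 ihy.1.2.2⟩,
        by rw [map_add, ihx.2, ihy.2, neg_add]⟩
    | smul r x _ ih =>
      refine ⟨⟨(weightedHomogeneousSubmodule k _ _).smul_mem r ih.1.1,
        (weightedHomogeneousSubmodule k _ _).smul_mem r ih.1.2.1, ?_⟩, by rw [map_smul, ih.2, smul_neg]⟩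
      rw [map_smul, smul_eq_C_mul]
      exact dvd_mul_of_dvd_right ih.1.2.2 _
  · rw [Fintype.linearIndependent_iff]
    intro g hg
    simp only [smul_eq_C_mul] at hg
    rw [hcomb] at hg
    have hT : ∀ a b, table g a b = 0 := fun a b => by rw [← coeff_Φ (table g) a b, hg, coeff_zero]
    have := hT 0 1; have := hT 1 0; have := hT 0 2; have := hT 2 0; have := hT 0 3; have := hT 3 0
    have := hT 1 1; have := hT 1 2; have := hT 2 1; have := hT 1 3; have := hT 3 1; have := hT 2 2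
    have := hT 2 3; have := hT 3 2
    simp [table] at *
    intro i
    fin_cases i <;> simp <;> grobner

end GrothLib.SpinCubic27
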